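import Groth.Agent.ResProp.EF.K65.Defs

/-!
# Calculus of values for block T
-/

set_option autoImplicit false

open MvPolynomial

namespace Groth.Agent.ResProp.EF.K65

universe u

section Basic

variable {r N : ℕ} {R : Type u} [CommRing R]
variable {S S' : Type u} [CommRing S] [Algebra R S] [CommRing S'] [Algebra R S']

@[simp] theorem ev_X (Y : Matrix (Fin r) (Fin N) S) (ij : Fin r × Fin N) :
    ev Y (X ij : P r N R) = Y ij.1 ij.2 := by
  simp [ev]

/-- naturality of values -/
theorem map_ev (φ : S →ₐ[R] S') (Y : Matrix (Fin r) (Fin N) S) (f : P r N R) :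
    φ (ev Y f) = ev (Y.map φ) f := by
  have : φ.comp (ev Y : P r N R →ₐ[R] S) = ev (Y.map φ) := by
    apply MvPolynomial.algHom_ext
    intro ij
    simp
  exact DFunLike.congr_fun this f

@[simp] theorem ev_gen (f : P r N R) : ev (gen r N R) f = f := by
  have : (ev (gen r N R) : P r N R →ₐ[R] P r N R) = AlgHom.id R _ := by
    apply MvPolynomial.algHom_ext
    intro ij
    simp [gen]
  rw [this]; rfl

/-- a polynomial is determined by its values -/
theorem ext_ev {f f' : P r N R}
    (h : ∀ (S : Type u) [CommRing S] [Algebra R S] (Y : Matrix (Fin r) (Fin N) S),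
      ev Y f = ev Y f') : f = f' := by
  have := h (P r N R) (gen r N R)
  simpa using this

theorem ev_ev (Y : Matrix (Fin r) (Fin N) S) {r' N' : ℕ} (Z : Matrix (Fin r') (Fin N') (P r N R))
    (f : P r' N' R) : ev Y (ev Z f) = ev (Z.map (ev Y)) f :=
  map_ev (ev Y) Z f

theorem ev_act (g : Matrix (Fin N) (Fin N) R) (Y : Matrix (Fin r) (Fin N) S) (f : P r N R) :
    ev Y (act g f) = ev (Y * g.map (algebraMap R S)) f := by
  unfold act
  rw [ev_ev]
  congr 2
  ext i j
  simp [Matrix.mul_apply, gen]

theorem act_act (g h : Matrix (Fin N) (Fin N) R) (f : P r N R) :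
    act g (act h f) = act (g * h) f := by
  apply ext_ev
  intro S _ _ Y
  rw [ev_act, ev_act, ev_act, Matrix.mul_assoc]
  congr 2
  ext i j
  simp [Matrix.mul_apply]

@[simp] theorem act_one (f : P r N R) : act 1 f = f := by
  apply ext_ev
  intro S _ _ Y
  rw [ev_act]
  congr 2
  ext i j
  simp [Matrix.mul_apply, Matrix.one_apply, apply_ite]

section
variable {S₁ S₂ : Type u}

@[simp] theorem consRow_zero (x : Fin N → S₁) (Y : Matrix (Fin r) (Fin N) S₁) (j : Fin N) :
    consRow x Y 0 j = x j := rfl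

@[simp] theorem consRow_succ (x : Fin N → S₁) (Y : Matrix (Fin r) (Fin N) S₁) (i : Fin r)
    (j : Fin N) : consRow x Y i.succ j = Y i j := rfl

theorem consRow_map (φ : S₁ → S₂) (x : Fin N → S₁) (Y : Matrix (Fin r) (Fin N) S₁) :
    (consRow x Y).map φ = consRow (φ ∘ x) (Y.map φ) := by
  ext i j
  refine Fin.cases ?_ (fun i => ?_) i <;> rfl

end

/-- value of `incl f`: forget the last row -/
theorem ev_incl (Y : Matrix (Fin (r + 1)) (Fin N) S) (f : P r N R) :
    ev Y (incl f) = ev (Matrix.of fun i j => Y i.castSucc j) f := by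
  unfold incl
  rw [ev_ev]
  congr 2
  ext i j
  simp

/-- the value of `split f` at coefficients -/
theorem map_split (Y : Matrix (Fin r) (Fin N) S) (f : P (r + 1) N R) :
    MvPolynomial.map (ev Y : P r N R →ₐ[R] S).toRingHom (split f) =
      ev (consRow X (Y.map C)) f := by
  have : (MvPolynomial.mapAlgHom (ev Y : P r N R →ₐ[R] S) : MvPolynomial (Fin N) (P r N R) →ₐ[R] _).comp
      split = (ev (consRow X (Y.map C)) : P (r + 1) N R →ₐ[R] MvPolynomial (Fin N) S) := by
    apply MvPolynomial.algHom_ext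
    rintro ⟨i, j⟩
    refine Fin.cases ?_ (fun i => ?_) i
    · simp [split]
    · simp [split, gen]
  exact DFunLike.congr_fun this f

/-- THE value formula for `taux` -/
theorem ev_taux (q : ℕ) (Y : Matrix (Fin r) (Fin N) S) (f : P (r + 1) N R) :
    ev Y (taux q f) = tau q (ev (consRow X (Y.map C)) f : MvPolynomial (Fin N) S) := by
  rw [← map_split]
  simp only [taux, tau, LinearMap.comp_apply, LinearMap.coe_restrictScalars, lcoeff_apply]
  rw [MvPolynomial.coeff_map]
  rfl

theorem ev_det_gen (n : ℕ) (Y : Matrix (Fin n) (Fin n) S) :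
    ev Y (gen n n R).det = Y.det := by
  rw [AlgHom.map_det]
  congr 1
  ext i j
  simp [gen]

end Basic

section Main

variable {m : ℕ} {R : Type u} [CommRing R] {S : Type u} [CommRing S] [Algebra R S]

theorem ev_sig (q : ℕ) (Y : Matrix (Fin (m + 1)) (Fin (m + 1)) S) (f : P m (m + 1) R) :
    ev Y (sig q f) = Y.det ^ (q - 1) * ev (Matrix.of fun i j => Y i.castSucc j) f := by
  simp only [sig, LinearMap.comp_apply, LinearMap.mulLeft_apply, AlgHom.toLinearMap_apply, map_mul,
    map_pow, ev_det_gen, ev_incl]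

/-- THE value formula for `E` -/
theorem ev_EE (q : ℕ) (Y : Matrix (Fin m) (Fin (m + 1)) S) (f : P m (m + 1) R) :
    ev Y (EE q f) = tau q ((consRow X (Y.map C) : Matrix (Fin (m + 1)) (Fin (m + 1))
      (MvPolynomial (Fin (m + 1)) S)).det ^ (q - 1) *
      ev (Matrix.of fun i j => consRow X (Y.map C) i.castSucc j) f) := by
  simp only [EE, LinearMap.comp_apply]
  rw [ev_taux, ev_sig]

end Main

end Groth.Agent.ResProp.EF.K65
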