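import Mathlib

/-!
# Block T (killing modules for GL_N over F_p), definitions

`P r N R` = polynomial functions on `r × N` matrices over `R`; `GL_N` (indeed `Mat_N`) acts by
`f(Y) ↦ f(Y g)`.  Rows are numbered `0, .., r-1`.  `N = m + 1` in the second half.
-/

set_option autoImplicit false

open MvPolynomial

namespace Groth.Agent.ResProp.EF.K65

universe u

/-- polynomial functions on `r × N` matrices over `R` -/
abbrev P (r N : ℕ) (R : Type u) [CommRing R] : Type u := MvPolynomial (Fin r × Fin N) R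

section Basic

variable {r r' N : ℕ} {R : Type u} [CommRing R]

/-- the value of `f` at the matrix `Y` with entries in an `R`-algebra `S` -/
noncomputable def ev {S : Type u} [CommRing S] [Algebra R S] (Y : Matrix (Fin r) (Fin N) S) :
    P r N R →ₐ[R] S :=
  aeval (fun ij => Y ij.1 ij.2)

/-- the generic matrix -/
noncomputable def gen (r N : ℕ) (R : Type u) [CommRing R] : Matrix (Fin r) (Fin N) (P r N R) :=
  Matrix.of fun i j => X (i, j)

/-- `(act g f)(Y) = f(Y g)` -/
noncomputable def act (g : Matrix (Fin N) (Fin N) R) : P r N R →ₐ[R] P r N R :=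
  ev (gen r N R * g.map (algebraMap R (P r N R)))

/-- the weight: `X (i, j)` has weight `e_i` (row degrees) -/
def wt (r N : ℕ) : Fin r × Fin N → (Fin r → ℕ) := fun ij => Pi.single ij.1 1

/-- `f` has degree `μ i` in row `i`, for all `i` -/
def MH (μ : Fin r → ℕ) (f : P r N R) : Prop := IsWeightedHomogeneous (wt r N) f μ

/-- the multihomogeneous component of row degrees `μ` -/
noncomputable def pr (μ : Fin r → ℕ) : P r N R →ₗ[R] P r N R :=
  weightedHomogeneousComponent (wt r N) μ

/-- the exponent `(q-1, .., q-1)` -/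
noncomputable def topE (N q : ℕ) : Fin N →₀ ℕ := Finsupp.equivFunOnFinite.symm (fun _ => q - 1)

/-- the coefficient of `(z_1 ⋯ z_N)^(q-1)` -/
noncomputable def tau (q : ℕ) {N : ℕ} {S : Type u} [CommRing S] : MvPolynomial (Fin N) S →ₗ[S] S :=
  lcoeff S (topE N q)

/-- the substitution `z ↦ z g` (row vector times matrix) in polynomials in `N` variables -/
noncomputable def vact {S : Type u} [CommRing S] (g : Matrix (Fin N) (Fin N) S) :
    MvPolynomial (Fin N) S →ₐ[S] MvPolynomial (Fin N) S :=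
  aeval (fun j => ∑ k, X k * C (g k j))

/-- put a row `x` on top of the matrix `Y` -/
def consRow {S : Type u} (x : Fin N → S) (Y : Matrix (Fin r) (Fin N) S) :
    Matrix (Fin (r + 1)) (Fin N) S :=
  Matrix.of (Fin.cons (α := fun _ => Fin N → S) x Y)

/-- a polynomial in `(x, Y)` as a polynomial in `x` with coefficients polynomials in `Y` -/
noncomputable def split : P (r + 1) N R →ₐ[R] MvPolynomial (Fin N) (P r N R) :=
  ev (consRow X ((gen r N R).map C))

/-- `tau` with respect to row `0`; the rows `1, .., r` are renamed `0, .., r-1` -/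
noncomputable def taux (q : ℕ) : P (r + 1) N R →ₗ[R] P r N R :=
  ((tau q).restrictScalars R).comp split.toLinearMap

/-- `f(Y_0, .., Y_(r-1))` as a function of `(Y_0, .., Y_r)` -/
noncomputable def incl : P r N R →ₐ[R] P (r + 1) N R :=
  ev (Matrix.of fun i j => X (i.castSucc, j))

end Basic

section Main

variable {m : ℕ} {R : Type u} [CommRing R]

/-- `σ f = det(Y)^(q-1) f(Y_0, .., Y_(m-1))`, `Y` an `(m+1) × (m+1)` matrix -/
noncomputable def sig (q : ℕ) : P m (m + 1) R →ₗ[R] P (m + 1) (m + 1) R :=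
  (LinearMap.mulLeft R ((gen (m + 1) (m + 1) R).det ^ (q - 1))).comp incl.toLinearMap

/-- `E = τ_x ∘ σ`: `(E f)(y_0, .., y_(m-1)) = τ_x (det(x, y)^(q-1) f(x, y_0, .., y_(m-2)))` -/
noncomputable def EE (q : ℕ) : P m (m + 1) R →ₗ[R] P m (m + 1) R :=
  (taux q).comp (sig q)

/-- row degrees of the functions in `T`: `(m - i)(q - 1)` in row `i < m` -/
def mu (m q : ℕ) : Fin m → ℕ := fun i => (m - i) * (q - 1)

/-- row degrees of `σ f`: `(m + 1 - i)(q - 1)` in row `i < m + 1` -/
def nu (m q : ℕ) : Fin (m + 1) → ℕ := fun i => (m + 1 - i) * (q - 1)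

/-- invariance of `f` under `y_j ↦ y_j + c y_i` for all `i < j` with `a ≤ j` -/
def Inv {r N : ℕ} (a : ℕ) (f : P r N R) : Prop :=
  ∀ (S : Type u) [CommRing S] [Algebra R S] (Y : Matrix (Fin r) (Fin N) S) (c : S) (i j : Fin r),
    i < j → a ≤ j → ev (Y.updateRow j (Y j + c • Y i)) f = ev Y f

/-- THE KILLING MODULE: row degrees `mu`, invariant under all `y_j ↦ y_j + c y_i`, `i < j` -/
def IsT (q : ℕ) (f : P m (m + 1) R) : Prop := MH (mu m q) f ∧ Inv 0 f

/-- first argument `∑ t_l y_l`, the others `y_0, .., y_(m-2)` -/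
noncomputable def shiftArg {N : ℕ} {S : Type u} [CommRing S] (Y : Matrix (Fin m) (Fin N) S) :
    Matrix (Fin m) (Fin N) (MvPolynomial (Fin m) S) :=
  Matrix.of fun i j => if h : (i : ℕ) = 0 then ∑ l, X l * C (Y l j)
    else C (Y ⟨i - 1, by omega⟩ j)

/-- the retraction `r(b, t) = E^m τ_x pr_ν (b · t(Y_0, .., Y_(m-1)))` -/
noncomputable def rr (q : ℕ) (b : P (m + 1) (m + 1) R) : P m (m + 1) R →ₗ[R] P m (m + 1) R :=
  ((EE q) ^ m).comp ((taux q).comp ((pr (nu m q)).comp ((LinearMap.mulLeft R b).comp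
    incl.toLinearMap)))

/-! ## the nodes -/

/-- (T0) -/
def T0 (p : ℕ) : Prop := ∀ (S : Type u) [CommRing S] [CharP S p] (N s : ℕ)
  (g : Matrix (Fin N) (Fin N) S) (f : MvPolynomial (Fin N) S), f.IsHomogeneous (N * (p ^ s - 1)) →
    tau (p ^ s) (vact g f) = g.det ^ (p ^ s - 1) * tau (p ^ s) f

/-- (T1): `E` is given by the formula with `t` -/
def T1 (p : ℕ) : Prop := ∀ (R : Type u) [CommRing R] [CharP R p] (m s : ℕ) (f : P m (m + 1) R),
  MH (mu m (p ^ s)) f → ∀ (S : Type u) [CommRing S] [Algebra R S] (Y : Matrix (Fin m) (Fin (m + 1)) S),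
    ev Y (EE (p ^ s) f) = tau (p ^ s) (ev (shiftArg Y) f)

/-- (T2) over every ring -/
def T2 : Prop := ∀ (R : Type u) [CommRing R] (m q : ℕ) (f : P m (m + 1) R), MH (mu m q) f →
  MH (mu m q) (EE q f) ∧ (∀ a, Inv (a + 1) f → Inv a (EE q f))

/-- (T3) for the formula with `t` -/
def T3 : Prop := ∀ (R : Type u) [CommRing R] (m q : ℕ), (-1 : R) ^ (q - 1) = 1 →
  ∀ f : P m (m + 1) R, IsT q f → ∀ (S : Type u) [CommRing S] [Algebra R S]
    (Y : Matrix (Fin m) (Fin (m + 1)) S), tau q (ev (shiftArg Y) f) = ev Y f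

/-- (T4): `T` contains an element with value `1` at the standard vectors -/
def T4 : Prop := ∀ (R : Type u) [CommRing R] (m q : ℕ), ∃ f : P m (m + 1) R, IsT q f ∧
  ev (Matrix.of fun i j => if (i : ℕ) = (j : ℕ) then (1 : R) else 0) f = 1

end Main

end Groth.Agent.ResProp.EF.K65
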