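import Groth.Agent.ResProp.EF.K65.OutTriv
import Groth.Agent.ResProp.EF.K653.GpGL

/-!
# `Out` for `GL_0`
-/

set_option autoImplicit false

universe u

namespace Groth.Agent.ResProp.EF.K65

open Grp CoordGrp

theorem surjective_algebraMap_GL0 (k : Type u) [CommRing k] :
    Function.Surjective (algebraMap k (GLn 0 k)) := by
  have hdet : (GLn.det : GLn 0 k) = 1 := by
    change GLn.mk 0 k (GLb.det 0 k) = 1
    have : GLb.det 0 k = 1 := Matrix.det_isEmpty
    rw [this, map_one]
  have hD : (GLn.Dinv : GLn 0 k) = 1 := by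
    have h := GLn.det_mul_Dinv (n := 0) (k := k)
    rwa [hdet, one_mul] at h
  have key : ∀ f : MvPolynomial (GLPoly.Idx 0) k,
      ∃ a : k, algebraMap k (GLn 0 k) a = GLn.mk 0 k (f : GLb 0 k) := by
    intro f
    induction f using MvPolynomial.induction_on with
    | C a => exact ⟨a, ((GLn.mk 0 k).commutes a).symm⟩
    | add p q hp hq =>
      obtain ⟨a, ha⟩ := hp
      obtain ⟨b, hb⟩ := hq
      refine ⟨a + b, ?_⟩
      rw [map_add, ha, hb]
      exact (map_add (GLn.mk 0 k) (p : GLb 0 k) (q : GLb 0 k)).symm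
    | mul_X p i hp =>
      obtain ⟨a, ha⟩ := hp
      refine ⟨a, ?_⟩
      rw [ha]
      rcases i with ⟨i, -⟩ | ⟨⟩
      · exact i.elim0
      · have h := map_mul (GLn.mk 0 k) (p : GLb 0 k) (GLb.D : GLb 0 k)
        have h2 : GLn.mk 0 k (GLb.D : GLb 0 k) = 1 := hD
        exact ((h.trans (congrArg (fun z => GLn.mk 0 k (p : GLb 0 k) * z) h2)).trans
          (mul_one _)).symm
  intro x
  obtain ⟨f, rfl⟩ := Ideal.Quotient.mk_surjective x
  exact key f

/-- `Out` for `GL_0` -/
theorem out_GL0 (p : ℕ) (k : Type u) [CommRing k] [Nontrivial k] :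
    K749.Out p (K653.GpGL 0 k) :=
  out_trivial p _ (surjective_algebraMap_GL0 k)

end Groth.Agent.ResProp.EF.K65
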