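import Groth.Agent.ResProp.EF.K701.LamGL
import Groth.Agent.ResProp.EF.K749.OutProd
import Groth.Agent.ResProp.EF.K471.OutLam
import Groth.Agent.ResProp.EF.K471.Kill
import Groth.Agent.ResProp.EF.K65.GLZero

/-!
# 1.4: assembly of G2d.  Hypothesis: `Input p (m + 1) k` for all `m` (`K701/LamGL.lean`)
-/

set_option autoImplicit false

universe u

namespace Groth.Agent.ResProp.EF.K65

open Grp

variable {k : Type u} [CommRing k] (p : ℕ) [IsLb p k]

/-- `Out` for `GL_n`, all `n` -/
theorem out_GL (hIn : ∀ m : ℕ, K701.GL.Input p (m + 1) k) (n : ℕ) : K749.Out p (K653.GpGL n k) := by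
  haveI : IsDomain k := IsLb.dom p
  cases n with
  | zero => exact out_GL0 p k
  | succ m => exact K701.GL.out_GL_of (hIn m)

/-- `Out` for `GL_a × (GL_b × GL_c)` -/
theorem out_GL3 (hIn : ∀ m : ℕ, K701.GL.Input p (m + 1) k) (a b c : ℕ) :
    K749.Out p (K749.prodGp (K653.GpGL a k) (K749.prodGp (K653.GpGL b k) (K653.GpGL c k))) :=
  K749.outProd p k _ _ (out_GL p hIn a) (K749.outProd p k _ _ (out_GL p hIn b) (out_GL p hIn c))

/-- **1.4** from `CD2` and `Out` -/
theorem killModP_of (G H : Gp k) (φ : G.O →ₐc[k] H.O) (h : CD2 p G H φ) (h' : K749.Out p G) :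
    KillModP p H :=
  K471.lemmaS p k G H φ h (K471.out_lamB p G h')

end Groth.Agent.ResProp.EF.K65
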