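import Groth.Agent.ResProp.EF.K65.Final
import Groth.Agent.ResProp.EF.K701.InputGL

/-!
# 1.4: `Out` for products of general linear groups, and `KillModP p H` from `CD2` (no hypothesis left in G2d)
-/

set_option autoImplicit false

universe u

namespace Groth.Agent.ResProp.EF.K65

open Grp

variable {k : Type u} [CommRing k] (p : ℕ) [IsLb p k]

/-- `Out` for `GL_n`, all `n ≥ 0` -/
theorem outGL (n : ℕ) : K749.Out p (K653.GpGL n k) := by
  haveI : IsDomain k := IsLb.dom p
  cases n with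
  | zero => exact out_GL0 p k
  | succ m => exact K701.InputGL.out_GL p k m

/-- `Out` for `GL_a × (GL_b × GL_c)` -/
theorem outGL3 (a b c : ℕ) :
    K749.Out p (K749.prodGp (K653.GpGL a k) (K749.prodGp (K653.GpGL b k) (K653.GpGL c k))) :=
  K749.outProd p k _ _ (outGL p a) (K749.outProd p k _ _ (outGL p b) (outGL p c))

/-- `Out` for `(GL_a × GL_b) × GL_c` -/
theorem outGL3' (a b c : ℕ) :
    K749.Out p (K749.prodGp (K749.prodGp (K653.GpGL a k) (K653.GpGL b k)) (K653.GpGL c k)) :=
  K749.outProd p k _ _ (K749.outProd p k _ _ (outGL p a) (outGL p b)) (outGL p c)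

/-- **1.4** for a subgroup `H` of `GL_a × (GL_b × GL_c)` with `CD2` -/
theorem killModP_GL3 {a b c : ℕ} (H : Gp k)
    (φ : (K749.prodGp (K653.GpGL a k) (K749.prodGp (K653.GpGL b k) (K653.GpGL c k))).O →ₐc[k] H.O)
    (h : CD2 p (K749.prodGp (K653.GpGL a k) (K749.prodGp (K653.GpGL b k) (K653.GpGL c k))) H φ) :
    KillModP p H :=
  killModP_of p _ H φ h (outGL3 p a b c)

/-- **1.4** for a subgroup `H` of `(GL_a × GL_b) × GL_c` with `CD2` -/
theorem killModP_GL3' {a b c : ℕ} (H : Gp k)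
    (φ : (K749.prodGp (K749.prodGp (K653.GpGL a k) (K653.GpGL b k)) (K653.GpGL c k)).O →ₐc[k] H.O)
    (h : CD2 p (K749.prodGp (K749.prodGp (K653.GpGL a k) (K653.GpGL b k)) (K653.GpGL c k)) H φ) :
    KillModP p H :=
  killModP_of p _ H φ h (outGL3' p a b c)

end Groth.Agent.ResProp.EF.K65
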