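import Groth.Agent.ResProp.EF.K128.Conerve
import Groth.Agent.ResProp.EF.K58.Frame

/-!
# G1, Z1a (4): the groupoid action passes from `D0` to the frame algebra `Fr i₀ φ` over `D0`
-/

set_option autoImplicit false

universe u

open CategoryTheory CategoryTheory.Limits Opposite

namespace Groth.Agent.ResProp.EF.K65

open EF56 K128.Conerve K58 K784.BC

variable {A : NFᵒᵖ ⥤ CommRingCat.{u}} {D0 D1 : Type u} [CommRing D0] [CommRing D1]
  (X : ActD A (CommRingCat.of D0) (CommRingCat.of D1)) {n : Type} [Fintype n] [DecidableEq n] (i₀ : n)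
  (φ : n → D0) (φ1 : n → D1) (hs : ∀ i, X.σ.hom (φ i) = φ1 i) (ht : ∀ i, X.τ.hom (φ i) = φ1 i)

/-- **the action on frames** -/
noncomputable def frAct : ActD A (CommRingCat.of (Fr i₀ φ)) (CommRingCat.of (Fr i₀ φ1)) where
  p := X.p ≫ CommRingCat.ofHom (algebraMap D0 (Fr i₀ φ))
  σ := CommRingCat.ofHom (Fr.map X.σ.hom hs)
  τ := CommRingCat.ofHom (Fr.map X.τ.hom ht)
  g := X.g ≫ CommRingCat.ofHom (algebraMap D1 (Fr i₀ φ1))
  po := by
    have h : IsPushout X.σ (CommRingCat.ofHom (algebraMap D0 (Fr i₀ φ)))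
        (CommRingCat.ofHom (algebraMap D1 (Fr i₀ φ1))) (CommRingCat.ofHom (Fr.map X.σ.hom hs)) :=
      Fr.isPO X.σ.hom hs
    exact X.po.paste_vert h
  ht := by
    rw [← Category.assoc, X.ht, Category.assoc, Category.assoc]
    congr 1
    exact CommRingCat.hom_ext (Fr.map_comp_algebraMap X.τ.hom ht).symm
  assoc := by
    intro T r r' r'' m h1 h2 h01 h12 h02
    have hs' : X.σ ≫ CommRingCat.ofHom (algebraMap D1 (Fr i₀ φ1)) =
        CommRingCat.ofHom (algebraMap D0 (Fr i₀ φ)) ≫ CommRingCat.ofHom (Fr.map X.σ.hom hs) :=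
      CommRingCat.hom_ext (Fr.map_comp_algebraMap X.σ.hom hs).symm
    have ht' : X.τ ≫ CommRingCat.ofHom (algebraMap D1 (Fr i₀ φ1)) =
        CommRingCat.ofHom (algebraMap D0 (Fr i₀ φ)) ≫ CommRingCat.ofHom (Fr.map X.τ.hom ht) :=
      CommRingCat.hom_ext (Fr.map_comp_algebraMap X.τ.hom ht).symm
    have key := X.assoc (CommRingCat.ofHom (algebraMap D1 (Fr i₀ φ1)) ≫ r)
      (CommRingCat.ofHom (algebraMap D1 (Fr i₀ φ1)) ≫ r')
      (CommRingCat.ofHom (algebraMap D1 (Fr i₀ φ1)) ≫ r'') m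
      (by rw [reassoc_of% hs', reassoc_of% ht', h1])
      (by rw [reassoc_of% hs', reassoc_of% hs', h2])
      (by rw [h01, Category.assoc]) (by rw [h12, Category.assoc]) (by rw [h02, Category.assoc])
    have mt : ∀ {S : Type u} [CommRing S] (f f' : Fr i₀ φ1 →+* S),
        (mat i₀ φ).map (f.comp (Fr.map X.τ.hom ht)) = (mat i₀ φ1).map f ∧
        (mat i₀ φ).map (f.comp (Fr.map X.σ.hom hs)) = (mat i₀ φ1).map f := by
      intro S _ f f'
      constructor
      · rw [← Fr.map_mat X.τ.hom ht, Matrix.map_map]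
        rfl
      · rw [← Fr.map_mat X.σ.hom hs, Matrix.map_map]
        rfl
    apply CommRingCat.hom_ext
    refine Fr.hom_ext ?_ ?_
    · have e : CommRingCat.ofHom (algebraMap D0 (Fr i₀ φ)) ≫ CommRingCat.ofHom (Fr.map X.τ.hom ht) ≫ r'' =
          CommRingCat.ofHom (algebraMap D0 (Fr i₀ φ)) ≫ CommRingCat.ofHom (Fr.map X.τ.hom ht) ≫ r' := by
        rw [← reassoc_of% ht', ← reassoc_of% ht', key]
      exact congrArg (fun z => z.hom) e
    · have e1 : (mat i₀ φ).map (CommRingCat.ofHom (Fr.map X.τ.hom ht) ≫ r'').hom = (mat i₀ φ1).map r''.hom :=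
        (mt r''.hom r''.hom).1
      have e2 : (mat i₀ φ).map (CommRingCat.ofHom (Fr.map X.τ.hom ht) ≫ r').hom = (mat i₀ φ1).map r'.hom :=
        (mt r'.hom r'.hom).1
      have e3 : (mat i₀ φ).map (CommRingCat.ofHom (Fr.map X.σ.hom hs) ≫ r').hom = (mat i₀ φ1).map r'.hom :=
        (mt r'.hom r'.hom).2
      have e4 : (mat i₀ φ).map (CommRingCat.ofHom (Fr.map X.τ.hom ht) ≫ r).hom = (mat i₀ φ1).map r.hom :=
        (mt r.hom r.hom).1
      have e5 : (mat i₀ φ).map (CommRingCat.ofHom (Fr.map X.σ.hom hs) ≫ r'').hom = (mat i₀ φ1).map r''.hom :=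
        (mt r''.hom r''.hom).2
      have e6 : (mat i₀ φ).map (CommRingCat.ofHom (Fr.map X.σ.hom hs) ≫ r).hom = (mat i₀ φ1).map r.hom :=
        (mt r.hom r.hom).2
      rw [e1, e2, ← e5, h2, e6, ← e4, ← h1, e3]

end Groth.Agent.ResProp.EF.K65
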