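import Groth.Agent.ResProp.EF.K65.Final2
import Groth.Agent.ResProp.EF.K711.Tors
import Groth.Agent.ResProp.EF.K374.StabProd

/-!
# 1.4 for `H = Stab × G'` (everything proved from `StabData`)
-/

set_option autoImplicit false

universe u

namespace Groth.Agent.ResProp.EF.K65

open Grp

variable {k : Type u} [CommRing k] (p : ℕ) [hk : IsLb p k]

/-- **1.4** from `StabData` and `Out` -/
theorem killModP_of_stabData {G H : Gp k} (φ : G.O →ₐc[k] H.O) (t : ℕ) (D : K711.StabData φ t)
    (hG : K749.Out p G) : KillModP p H :=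
  killModP_of p G H φ
    (K711.cd2_of_stabData φ p hk.prime (K471.isMaximal_span (k := k) p) t D) hG

/-- `Out` for `GL_{t+1} × (GL_t × G')` -/
theorem out_GG (t : ℕ) (G1 : Gp k) (h1 : K749.Out p G1) : K749.Out p (K374.GG k t G1) :=
  K749.outProd p k _ _ (outGL p (t + 1)) (K749.outProd p k _ _ (outGL p t) h1)

/-- **1.4** for `H = Stab × G'`, `G'` any group with `Out` (for example a product of `GL_n`'s) -/
theorem killModP_HH (t : ℕ) (G1 : Gp k) (h1 : K749.Out p G1)
    (D : K711.StabData (K374.φφ k t G1) t) : KillModP p (K374.HH k t G1) :=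
  killModP_of_stabData p (K374.φφ k t G1) t D (out_GG p t G1 h1)

end Groth.Agent.ResProp.EF.K65
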