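import Groth.Agent.ResProp.EF.Grp

/-!
# Interface of 1.4 (G2c + G2d), in the language of `Grp.lean`

`KillModP p H` (1.4) `⇐` `CD2 p G H φ` (G2c, helper711) and `LamB p G` (G2d, helper65), for a homomorphism
`H → G`, i.e. `φ : O(G) → O(H)`.  No base change to `F_p`: everything over `k`, coefficients killed by `p`.
-/

set_option autoImplicit false

universe u

open TensorProduct

noncomputable section

namespace Groth.Agent.ResProp.EF.K65

open Grp

variable {k : Type u} [CommRing k]

/-- the regular module of `G` -/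
abbrev reg (G : Gp k) : GMod G where
  V := G.O
  co := HopfRep.Comod.regular k G.O

/-- `f ⊗ M` is injective for all `M` killed by `p` (`f` is injective mod `p`) -/
def InjP (p : ℕ) {X Y : Type u} [AddCommGroup X] [Module k X] [AddCommGroup Y] [Module k Y]
    (f : X →ₗ[k] Y) : Prop :=
  ∀ (M : Type u) [AddCommGroup M] [Module k M], (∀ m : M, (p : k) • m = 0) →
    Function.Injective (f.lTensor M)

/-- `f` is a morphism of `G`-modules modulo `p` -/
def HomP (p : ℕ) {G : Gp k} (M N : GMod G) (f : M.V →ₗ[k] N.V) : Prop :=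
  ∀ x : M.V, ∃ y : N.V ⊗[k] G.O, N.co.coact (f x) - f.rTensor G.O (M.co.coact x) = (p : k) • y

/-- **(CD2)** [G2c, helper711, helper171, helper82]: for every `H`-module `M` killed by `p` and every 2-cocycle `c` of
`M`, `c ⊗ 1` is a coboundary in `M ⊗ O(G)` (regular module of `G` restricted to `H`). -/
def CD2 (p : ℕ) (G H : Gp k) (φ : G.O →ₐc[k] H.O) : Prop :=
  ∀ M : GMod H, (∀ m : M.V, (p : k) • m = 0) → ∀ c : M.C 2, M.d 2 c = 0 →
    IsCob (M.tens ((reg G).res φ)) 1
      (cmap M (M.tens ((reg G).res φ)) (tmulR M ((reg G).res φ) (1 : G.O)) 2 c)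

/-- one stage of the exhaustion of the regular module: a `G`-module `Ok` with a map to `O(G)`, injective mod `p`,
containing `1`, and a finite free `T ≠ 0` with `λ : Ok → End T`, `λ(1) ≡ id`, equivariant mod `p` -/
structure Stage (p : ℕ) (G : Gp k) where
  Ok : GMod G
  i : Ok.V →ₗ[k] G.O
  hom : Hoch.IsComodHom G.O i
  inj : InjP p i
  e : Ok.V
  ie : i e = 1
  T : GMod G
  lat : IsLat T
  E : EndStr T
  l : Ok.V →ₗ[k] Module.End k T.V
  lhom : HomP p Ok E.mod l
  le : ∃ f : Module.End k T.V, l e = 1 + (p : k) • f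

/-- **(OUT)** [G2d]: `O(G)` is the filtered union of the stages -/
def LamB (p : ℕ) (G : Gp k) : Prop :=
  ∀ F : Finset G.O, ∃ S : Stage p G, ∀ a ∈ F, a ∈ LinearMap.range S.i

/-- **(S)** [helper471]: Lemma S -/
def LemmaS (p : ℕ) : Prop :=
  ∀ (k : Type u) [CommRing k] (G H : Gp k) (φ : G.O →ₐc[k] H.O), CD2 p G H φ → LamB p G → KillModP p H

/-- products [helper749]: `G''` a product of `G` and `G'` -/
def LamProd (p : ℕ) : Prop :=
  ∀ (k : Type u) [CommRing k] (G G' G'' : Gp k) (_ : (G.O ⊗[k] G'.O) ≃ₐc[k] G''.O),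
    LamB p G → LamB p G' → LamB p G''

end Groth.Agent.ResProp.EF.K65
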