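import Groth.Agent.ResProp.EF.K65.Triv
import Groth.Agent.ResProp.EF.K749.OutDef

/-!
# `Out` for the trivial group (`GL_0`)
-/

set_option autoImplicit false

universe u

open TensorProduct

noncomputable section

namespace Groth.Agent.ResProp.EF.K65

open Grp

variable {k : Type u} [CommRing k]

theorem out_trivial (p : ℕ) [Nontrivial k] (G : Gp k)
    (hG : Function.Surjective (algebraMap k G.O)) : K749.Out p G := by
  have hc : ∀ x : G.O, CoalgebraStruct.comul (R := k) x = x ⊗ₜ[k] (1 : G.O) := by
    intro x
    obtain ⟨c, rfl⟩ := hG x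
    rw [Algebra.algebraMap_eq_smul_one, map_smul, Bialgebra.comul_one,
      Algebra.TensorProduct.one_def, TensorProduct.smul_tmul']
  intro W _
  refine ⟨trivM G, reg G, LinearMap.id, (1 : G.O),
    (TensorProduct.rid k k).toLinearMap ∘ₗ
      (CoalgebraStruct.counit (R := k) (A := G.O)).rTensor k,
    ⟨inferInstanceAs (Module.Free k k), inferInstanceAs (Module.Finite k k),
      inferInstanceAs (Nontrivial k)⟩, ?_, ?_⟩
  · refine
      { freeO := inferInstanceAs (Module.Free k G.O)
        inj := fun o a h => ⟨a, h⟩
        hom_j := fun o => ?_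
        j_e := rfl
        inv_e := hc 1
        unit := fun t => ⟨0, ?_⟩
        hom_s := fun z => ⟨0, ?_⟩ }
    · rw [LinearMap.rTensor_id]
      rfl
    · change (TensorProduct.rid k k) ((CoalgebraStruct.counit (R := k) (A := G.O)).rTensor k
        ((1 : G.O) ⊗ₜ[k] (t : k))) - (t : k) = (p : k) • (0 : k)
      rw [LinearMap.rTensor_tmul, Bialgebra.counit_one, smul_zero, sub_eq_zero]
      simp
    · rw [smul_zero, sub_eq_zero]
      have key : (trivM G).co.coact ∘ₗ ((TensorProduct.rid k k).toLinearMap ∘ₗ
          (CoalgebraStruct.counit (R := k) (A := G.O)).rTensor k) =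
          ((TensorProduct.rid k k).toLinearMap ∘ₗ
          (CoalgebraStruct.counit (R := k) (A := G.O)).rTensor k).rTensor G.O ∘ₗ
          ((reg G).tens (trivM G)).co.coact := by
        apply TensorProduct.ext'
        intro x t
        have h2 : ((reg G).tens (trivM G)).co.coact (x ⊗ₜ[k] t) =
            (x ⊗ₜ[k] t) ⊗ₜ[k] (1 : G.O) := by
          refine (ComodTens.tensor_coact_tmul_of_sum (reg G).co (trivM G).co
            (Finset.univ : Finset Unit) (Finset.univ : Finset Unit) x t
            (fun _ => x) (fun _ => (1 : G.O)) (fun _ => t) (fun _ => (1 : G.O)) ?_ ?_).trans ?_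
          · simp only [Finset.univ_unique, Finset.sum_singleton]
            exact hc x
          · simp only [Finset.univ_unique, Finset.sum_singleton]
            rfl
          · simp
        rw [LinearMap.comp_apply, LinearMap.comp_apply, LinearMap.comp_apply]
        refine Eq.trans ?_ (congrArg (((TensorProduct.rid k k).toLinearMap ∘ₗ
          (CoalgebraStruct.counit (R := k) (A := G.O)).rTensor k).rTensor G.O) h2).symm
        rfl
      exact LinearMap.congr_fun key z
  · rintro x -
    exact ⟨x, rfl⟩

end Groth.Agent.ResProp.EF.K65
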