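import Groth.Agent.ResProp.EF.K65.Out

/-!
# `LamB` for the trivial group (`GL_0`)
-/

set_option autoImplicit false

universe u

open TensorProduct

noncomputable section

namespace Groth.Agent.ResProp.EF.K65

open Grp

variable {k : Type u} [CommRing k]

/-- the trivial module `k` -/
abbrev trivM (G : Gp k) : GMod G where
  V := k
  co := HopfRep.Comod.trivial k G.O k

/-- the trivial structure on `End k` -/
def trivE (G : Gp k) : EndStr (trivM G) where
  co := HopfRep.Comod.trivial k G.O (Module.End k k)
  ev := by
    unfold Hoch.IsComodHom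
    apply TensorProduct.ext'
    intro f t
    change (HopfRep.Comod.trivial k G.O k).coact (f t) =
      LinearMap.rTensor G.O (TensorProduct.lift LinearMap.id)
        ((ComodTens.Comod.tensor (HopfRep.Comod.trivial k G.O (Module.End k k))
          (HopfRep.Comod.trivial k G.O k)).coact (f ⊗ₜ[k] t))
    rw [ComodTens.tensor_coact_tmul]
    change (f t : k) ⊗ₜ[k] (1 : G.O) = LinearMap.rTensor G.O (TensorProduct.lift LinearMap.id)
      (TensorProduct.map LinearMap.id (LinearMap.mul' k G.O)
        (AlgebraTensorModule.tensorTensorTensorComm k k k k (Module.End k k) G.O k G.O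
          ((f ⊗ₜ[k] (1 : G.O)) ⊗ₜ[k] (t ⊗ₜ[k] (1 : G.O)))))
    simp

theorem trivE_coact (G : Gp k) (f : Module.End k k) : (trivE G).mod.co.coact f = f ⊗ₜ[k] (1 : G.O) :=
  rfl

theorem reg_coact (G : Gp k) (x : G.O) :
    (reg G).co.coact x = CoalgebraStruct.comul (R := k) x := rfl

theorem trivL_homP (p : ℕ) (G : Gp k) (hG : Function.Surjective (algebraMap k G.O)) :
    HomP p (reg G) (trivE G).mod
      ((CoalgebraStruct.counit (R := k) (A := G.O)).smulRight (1 : Module.End k k)) := by
  intro x
  refine ⟨0, ?_⟩
  obtain ⟨c, rfl⟩ := hG x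
  have h1 : CoalgebraStruct.comul (R := k) (algebraMap k G.O c) =
      (algebraMap k G.O c) ⊗ₜ[k] (1 : G.O) := by
    rw [Algebra.algebraMap_eq_smul_one, map_smul, Bialgebra.comul_one,
      Algebra.TensorProduct.one_def, TensorProduct.smul_tmul']
  rw [reg_coact, h1, LinearMap.rTensor_tmul, smul_zero, sub_eq_zero]
  exact trivE_coact G _

theorem lamB_trivial (p : ℕ) [Nontrivial k] (G : Gp k)
    (hG : Function.Surjective (algebraMap k G.O)) : LamB p G := by
  intro F
  refine ⟨{ Ok := reg G
            i := LinearMap.id
            hom := ?_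
            inj := ?_
            e := (1 : G.O)
            ie := rfl
            T := trivM G
            lat := ⟨inferInstanceAs (Module.Free k k), inferInstanceAs (Module.Finite k k),
              inferInstanceAs (Nontrivial k)⟩
            E := trivE G
            l := (CoalgebraStruct.counit (R := k) (A := G.O)).smulRight (1 : Module.End k k)
            lhom := trivL_homP p G hG
            le := ⟨0, ?_⟩ }, ?_⟩
  · simp [Hoch.IsComodHom]
  · intro M _ _ _
    simpa using Function.injective_id
  · rw [smul_zero, add_zero, LinearMap.smulRight_apply, Bialgebra.counit_one, one_smul]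
  · intro a _
    exact ⟨a, rfl⟩

end Groth.Agent.ResProp.EF.K65
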